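import Cfsg.Agent.H509.WeakBlock
import Cfsg.Agent.H326.Four.RowHe
import Cfsg.Agent.H19.Odd.HeCntA
import Cfsg.Agent.H19.Odd.HeCntB
import Cfsg.Agent.H19.Odd.HeCntD
import Cfsg.Agent.H19.Odd.Heis

/-!
# S4095 at the prime 2: the row of the Held group (helper736)

* `core_A` : `O_2(C(x)) = 1` for `x = d e` (class `3A`): its order is a power of 2 congruent to 1 modulo 5 and 7;
* `factA` : `Q = 7^{1+2} : 3^2`, order 3087;
* `factB` : `Y` = the elements `x` of order 3 with `O_2(C(x)) = 1`, through `C(V) = 2^2.L_3(4)`;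
* `row` : the row.
-/

set_option autoImplicit false
set_option maxRecDepth 100000

namespace Cfsg.Agent.H736.S4095.He

open Subgroup Cfsg Cfsg.Agent.H516 Cfsg.Agent.H509.Weak
open Cfsg.Spor.He (Gen)
open Cfsg.Agent.SporadicB.HePerm hiding wd
open Cfsg.Agent.SporadicB.HePerm (act wd)
open Cfsg.Agent.FixBN.HeStab Cfsg.Agent.KFacts.He.Lv Cfsg.Agent.CpAutHe.Cnt
open Cfsg.Agent.H19.Odd Cfsg.Agent.H19.Odd.HeCnt
open Cfsg.Agent.FixBN.HeData (p1W p2W zW)
open Cfsg.Agent.CpAutHe.Seven (ne_one_of_act)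

universe u

/-! ### The words (checks: helper19) -/

local instance fin : Finite Spor.He := BpSpor.HeThree.finite_he

theorem one_of_chk {v : List Gen} (h : chkB v [] = true) : wd v = 1 := by
  rw [eq_of_chkB h, wd_nil]

theorem pow_of_chk {v : List Gen} {n : ℕ} (h : chkB (pw v n) [] = true) : wd v ^ n = 1 := by
  rw [← wd_pw, one_of_chk h]

theorem comm_of_chk {v w : List Gen} (h : chkB (v ++ w) (w ++ v) = true) : Commute (wd v) (wd w) := by
  have := eq_of_chkB h
  rwa [wd_append, wd_append] at this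

theorem conj_of_chk {g v w : List Gen} (h : chkB (g ++ v) (w ++ g) = true) : wd g * wd v * (wd g)⁻¹ = wd w := by
  have := eq_of_chkB h
  rw [wd_append, wd_append] at this
  rw [this, mul_inv_cancel_right]

theorem orderOf_of {v : List Gen} {r : ℕ} (hr : r.Prime) (h1 : wd v ^ r = 1) (h2 : wd v ≠ 1) : orderOf (wd v) = r := by
  have : Fact r.Prime := ⟨hr⟩
  exact orderOf_eq_prime h1 h2

theorem not_dvd {r n : ℕ} (h : (4030387200 % r ^ n == 0) = false) : ¬ r ^ n ∣ Nat.card Cfsg.Spor.He := by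
  rw [KFacts.He.Classes.card_he]
  intro h1
  rw [Nat.mod_eq_zero_of_dvd h1] at h
  exact absurd h (by decide)

/-! ### Order 3 (words of helper19) -/

def U3 : List Gen := [.f, .g, .c, .d, .f, .g, .c]
def V3 : List Gen := [.b, .c, .b, .d, .e, .f, .d, .c, .b, .d, .c, .e, .d, .c, .d, .b, .c, .d, .f, .e, .d, .c, .d, .b, .c,
  .d, .c]
def G3u : List Gen := [.c, .g, .f]
def G3v : List Gen := [.c, .b, .d, .c, .e, .d, .g, .e, .d, .c, .d, .b, .c]
def G3a : List Gen := [.d, .c, .d, .c, .b, .d, .e, .f, .d, .c, .d, .f, .c, .d, .c, .d, .g, .b, .c]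
def G3b : List Gen := [.d, .c, .b, .a, .d, .c, .b, .g, .d, .c, .d, .g, .c, .d, .c, .d, .f, .b, .c]

theorem A_pow : wd XA ^ 3 = 1 := pow_of_chk (by decide +kernel)
theorem A_ne : wd XA ≠ 1 := ne_one_of_act 30 (by decide +kernel)
theorem U3_pow : wd U3 ^ 3 = 1 := pow_of_chk (by decide +kernel)
theorem V3_pow : wd V3 ^ 3 = 1 := pow_of_chk (by decide +kernel)
theorem A_U3 : Commute (wd XA) (wd U3) := comm_of_chk (by decide +kernel)
theorem A_V3 : Commute (wd XA) (wd V3) := comm_of_chk (by decide +kernel)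
theorem U3_V3 : wd U3 * wd V3 = wd V3 * wd U3 * wd XA ^ 1 := by
  have h := eq_of_chkB (v := U3 ++ V3) (w := V3 ++ (U3 ++ XA)) (by decide +kernel)
  rw [wd_append, wd_append, wd_append] at h
  rw [h, pow_one, mul_assoc]

theorem g3u : wd G3u * wd U3 * (wd G3u)⁻¹ = wd XA := conj_of_chk (by decide +kernel)
theorem g3v : wd G3v * wd V3 * (wd G3v)⁻¹ = wd XA := conj_of_chk (by decide +kernel)
theorem g3a : wd G3a * wd (V3 ++ U3) * (wd G3a)⁻¹ = wd XB := conj_of_chk (by decide +kernel)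
theorem g3b : wd G3b * wd (V3 ++ (U3 ++ U3)) * (wd G3b)⁻¹ = wd XB := conj_of_chk (by decide +kernel)


def Uw : List Gen := [.b, .c, .d, .f, .d, .c, .e, .d, .e, .g, .d, .f, .c, .d, .g]
def Vw : List Gen := [.b, .c, .f, .g, .d, .f, .g, .c]
def Aw : List Gen := [.b, .d, .g, .d, .c, .b, .e, .d, .c, .d, .b, .c, .d, .e, .b, .c, .d, .g, .e, .d]
def Bw : List Gen := [.c, .g, .d, .f, .d, .c, .e, .d, .c, .d, .b, .c, .d, .g, .c, .d, .e, .b, .a]

theorem u_pow : wd Uw ^ 7 = 1 := pow_of_chk (by decide +kernel)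
theorem u_ne : wd Uw ≠ 1 := ne_one_of_act 0 (by decide +kernel)
theorem u_comm : Commute (wd Uw) (wd XA) := comm_of_chk (by decide +kernel)
theorem v_pow : wd Vw ^ 5 = 1 := pow_of_chk (by decide +kernel)
theorem v_ne : wd Vw ≠ 1 := ne_one_of_act 0 (by decide +kernel)
theorem v_comm : Commute (wd Vw) (wd XA) := comm_of_chk (by decide +kernel)

theorem u_order : orderOf (wd Uw) = 7 := orderOf_of (by norm_num) u_pow u_ne
theorem v_order : orderOf (wd Vw) = 5 := orderOf_of (by norm_num) v_pow v_ne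
theorem A_order : orderOf (wd XA) = 3 := orderOf_of (by norm_num) A_pow A_ne

/-! ### `O_2(C(x))` -/

/-- an involution commuting with an element of order 3 -/
theorem inv_three {x t : Spor.He} (hx : orderOf x = 3) (ht : orderOf t = 2) (hxt : x * t = t * x) :
    Nat.card ↥(centralizer ({t} : Set Spor.He) ⊓ centralizer ({x} : Set Spor.He)) ∣ 288 := by
  have htt : t * t = 1 := by rw [← pow_two, ← ht, pow_orderOf_eq_one]
  have ht1 : t ≠ 1 := by
    rintro rfl
    rw [orderOf_one] at ht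
    omega
  have key : ∀ s : Spor.He, IsConj s t →
      (∀ y : Spor.He, orderOf y = 3 → y * s = s * y →
        Nat.card ↥(centralizer ({s} : Set Spor.He) ⊓ centralizer ({y} : Set Spor.He)) ∣ 288) →
      Nat.card ↥(centralizer ({t} : Set Spor.He) ⊓ centralizer ({x} : Set Spor.He)) ∣ 288 := by
    intro s hst h
    obtain ⟨g, rfl⟩ := isConj_iff.1 hst
    rw [BpSpor.Cen.card_inf_conj]
    apply h
    · rw [← hx]
      have := (MulAut.conj g⁻¹).orderOf_eq x
      rw [MulAut.conj_apply, inv_inv] at this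
      exact this
    · calc g⁻¹ * x * g * s = g⁻¹ * (x * (g * s * g⁻¹)) * g := by group
        _ = g⁻¹ * (g * s * g⁻¹ * x) * g := by rw [hxt]
        _ = s * (g⁻¹ * x * g) := by group
  rcases BpSpor.HeThree.classes htt ht1 with h | h
  · refine key _ h fun y hy hyz => ?_
    have S := KFacts.TwoSix.Sheet.sheet_of KFacts.He.Hyp.hyp.inj
    rw [KFacts.He.Hyp.hyp.map_zz] at S
    exact (BpSpor.HeThree.card_sheet_three S (by rw [KFacts.He.Hyp.hyp.range]) hy hyz).trans (by norm_num)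
  · refine key _ h fun y hy hya => ?_
    exact (BpSpor.HeThree.card_a_three hy hya).trans (by norm_num)

/-- an element of order 5 or 7 commuting with `x` of order 3 acts without fixed points on `O_2(C(x))` -/
theorem fix_one {x w : Spor.He} {p : ℕ} [hp : Fact p.Prime] (hp5 : ¬ p ∣ 288) (hx : orderOf x = 3)
    (hw : orderOf w = p) (hwx : Commute w x) {R : Subgroup Spor.He} (hR : IsPGroup 2 R)
    (hRx : R ≤ centralizer ({x} : Set Spor.He)) (hn : ∀ n ∈ R, w * n * w⁻¹ ∈ R) : Nat.card R ≡ 1 [MOD p] := by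
  have h2 : Fact (Nat.Prime 2) := ⟨Nat.prime_two⟩
  have h1 := BpSpor.Cen.card_fix hw hn
  have h3 : Nat.card ↥(R ⊓ centralizer ({w} : Set Spor.He)) = 1 := by
    have h4 : IsPGroup 2 ↥(R ⊓ centralizer ({w} : Set Spor.He)) := hR.to_le inf_le_left
    obtain ⟨n, hn⟩ := IsPGroup.iff_card.1 h4
    rcases Nat.eq_zero_or_pos n with rfl | hn0
    · rw [hn, pow_zero]
    · exfalso
      obtain ⟨t, ht⟩ := exists_prime_orderOf_dvd_card' (G := ↥(R ⊓ centralizer ({w} : Set Spor.He))) 2
        (by rw [hn]; exact dvd_pow_self 2 (by omega))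
      have hto : orderOf (t : Spor.He) = 2 := by rw [Subgroup.orderOf_coe, ht]
      have htR : (t : Spor.He) ∈ centralizer ({x} : Set Spor.He) := hRx t.2.1
      have htw := mem_centralizer_singleton_iff.1 t.2.2
      have h5 := inv_three hx hto (mem_centralizer_singleton_iff.1 htR).symm
      apply hp5
      refine dvd_trans ?_ h5
      have h6 : w ∈ centralizer ({(t : Spor.He)} : Set Spor.He) ⊓ centralizer ({x} : Set Spor.He) :=
        ⟨mem_centralizer_singleton_iff.2 htw.symm, mem_centralizer_singleton_iff.2 hwx.eq⟩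
      rw [← hw, ← Subgroup.orderOf_mk w h6]
      exact orderOf_dvd_natCard _
  rwa [h3] at h1

theorem core_A : pCore 2 ↥(centralizer ({wd XA} : Set Spor.He)) = ⊥ := by
  have h2 : Fact (Nat.Prime 2) := ⟨Nat.prime_two⟩
  have h5 : Fact (Nat.Prime 5) := ⟨by norm_num⟩
  have h7 : Fact (Nat.Prime 7) := ⟨by norm_num⟩
  set C := centralizer ({wd XA} : Set Spor.He) with hC
  have hN := (Lib.Cores.pCore_normal (G := C) 2)
  set R : Subgroup Spor.He := (pCore 2 C).map C.subtype with hR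
  have hRp : IsPGroup 2 R := (Lib.Cores.pCore_isPGroup (G := C) 2).map _
  have hRC : R ≤ C := by
    rintro _ ⟨r, -, rfl⟩
    exact r.2
  have hn : ∀ w ∈ C, ∀ n ∈ R, w * n * w⁻¹ ∈ R := by
    rintro w hw _ ⟨r, hr, rfl⟩
    exact ⟨⟨w, hw⟩ * r * ⟨w, hw⟩⁻¹, hN.conj_mem r hr _, rfl⟩
  have k7 := fix_one (p := 7) (by norm_num) A_order u_order u_comm hRp hRC
    (hn _ (mem_centralizer_singleton_iff.2 u_comm.eq))
  have k5 := fix_one (p := 5) (by norm_num) A_order v_order v_comm hRp hRC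
    (hn _ (mem_centralizer_singleton_iff.2 v_comm.eq))
  obtain ⟨n, hcn⟩ := IsPGroup.iff_card.1 hRp
  have hd : 2 ^ n ∣ 4030387200 := by
    rw [← hcn, ← KFacts.He.Classes.card_he]
    exact Subgroup.card_subgroup_dvd_card _
  have hn10 : n ≤ 10 := by
    by_contra h
    have h1 : 2 ^ 11 ∣ 4030387200 := (pow_dvd_pow 2 (by omega)).trans hd
    exact absurd h1 (by norm_num)
  rw [hcn] at k5 k7
  have hn0 : n = 0 := by
    unfold Nat.ModEq at k5 k7
    interval_cases n <;> first | rfl | (exfalso; revert k5 k7; decide)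
  rw [hn0, pow_zero] at hcn
  have hb : R = ⊥ := Subgroup.card_eq_one.1 hcn
  rw [hR, Subgroup.map_eq_bot_iff_of_injective _ C.subtype_injective] at hb
  exact hb

/-- conjugate cyclic groups -/
theorem core_cent_eq {G : Type*} [Group G] {b y g : G} (h : zpowers (g * b * g⁻¹) = zpowers y)
    (hy : pCore 2 ↥(centralizer ({y} : Set G)) = ⊥) : pCore 2 ↥(centralizer ({b} : Set G)) = ⊥ := by
  have h2 : centralizer ({y} : Set G) = centralizer ({MulAut.conj g b} : Set G) := by
    rw [MulAut.conj_apply, ← centralizer_closure {y}, ← centralizer_closure {g * b * g⁻¹}, ← zpowers_eq_closure,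
      ← zpowers_eq_closure, h]
  rw [h2] at hy
  exact pCore_equiv (centEquiv (MulAut.conj g) b).symm hy

/-- **The elements of order 3.** -/
theorem three' {b : Spor.He} (hb : orderOf b = 3) : Nat.card ↥(centralizer ({b} : Set Spor.He)) ≤ 504 ∨
    pCore 2 ↥(centralizer ({b} : Set Spor.He)) = ⊥ := by
  have h3 : Fact (Nat.Prime 3) := ⟨Nat.prime_three⟩
  have key : ∀ {y g : Spor.He}, g * y * g⁻¹ = wd XA → pCore 2 ↥(centralizer ({y} : Set Spor.He)) = ⊥ := by
    intro y g h
    exact core_cent_eq (b := y) (y := wd XA) (g := g) (by rw [h]) core_A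
  have key2 : ∀ {y g : Spor.He}, g * y * g⁻¹ = wd XB → Nat.card ↥(centralizer ({y} : Set Spor.He)) ≤ 504 := by
    intro y g h
    rw [Heis.card_cent_eq (b := y) (y := wd XB) (g := g) (by rw [h])]
    exact cardB
  obtain ⟨y, hy, g, hg⟩ := Heis.reps3 A_pow U3_pow V3_pow A_U3 A_V3 U3_V3 (by norm_num) A_ne (not_dvd (by decide)) hb
  rw [Heis.card_cent_eq hg]
  rcases hy with rfl | rfl | ⟨i, hi, rfl⟩
  · exact Or.inr (core_cent_eq hg core_A)
  · exact Or.inr (core_cent_eq hg (key g3u))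
  · interval_cases i
    · rw [pow_zero, mul_one] at hg ⊢
      exact Or.inr (core_cent_eq hg (key g3v))
    · rw [pow_one, ← wd_append]
      exact Or.inl (key2 g3a)
    · rw [pow_two, ← wd_append, ← wd_append]
      exact Or.inl (key2 g3b)

/-! ### `7^{1+2} : 3^2` -/

theorem a_pow : wd Aw ^ 3 = 1 := pow_of_chk (by decide +kernel)
theorem a_ne : wd Aw ≠ 1 := ne_one_of_act 0 (by decide +kernel)
theorem b_pow : wd Bw ^ 3 = 1 := pow_of_chk (by decide +kernel)
theorem ab_ne : wd (Bw ++ Aw) ≠ 1 := ne_one_of_act 0 (by decide +kernel)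
theorem ab2_ne : wd (Bw ++ (Aw ++ Aw)) ≠ 1 := ne_one_of_act 0 (by decide +kernel)
theorem b_ne : wd Bw ≠ 1 := ne_one_of_act 0 (by decide +kernel)
theorem ab_comm : Commute (wd Aw) (wd Bw) := comm_of_chk (by decide +kernel)

theorem p1_pow : wd p1W ^ 7 = 1 := pow_of_chk (by decide +kernel)
theorem p2_pow : wd p2W ^ 7 = 1 := pow_of_chk (by decide +kernel)
theorem z_pow : wd zW ^ 7 = 1 := pow_of_chk (by decide +kernel)
theorem z_ne : wd zW ≠ 1 := ne_one_of_act 0 (by decide +kernel)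
theorem z_p1 : Commute (wd zW) (wd p1W) := comm_of_chk (by decide +kernel)
theorem z_p2 : Commute (wd zW) (wd p2W) := comm_of_chk (by decide +kernel)
theorem p2_p1 : wd p2W * wd p1W = wd p1W * wd p2W * wd zW ^ 1 := by
  have h := eq_of_chkB (v := p2W ++ p1W) (w := p1W ++ (p2W ++ zW)) (by decide +kernel)
  rw [wd_append, wd_append, wd_append] at h
  rw [h, pow_one, mul_assoc]

/-- the Sylow 7-subgroup -/
noncomputable def P : Subgroup Spor.He := Heis.P z_p2 z_p1 p2_p1

theorem card_P : Nat.card P = 343 := by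
  have h7 : Fact (Nat.Prime 7) := ⟨by norm_num⟩
  have h1 : 7 ^ 3 ∣ Nat.card P := Heis.card_P_dvd z_pow p2_pow p1_pow z_p2 z_p1 p2_p1 (by norm_num) z_ne
  have h2 : IsPGroup 7 P := Heis.isPGroup_P z_pow p2_pow p1_pow z_p2 z_p1 p2_p1
  obtain ⟨n, hn⟩ := IsPGroup.iff_card.mp h2
  have hd := P.card_subgroup_dvd_card
  rw [hn, KFacts.He.Classes.card_he] at hd
  have hn3 : n ≤ 3 := by
    by_contra hcon
    have h1 : 7 ^ 4 ∣ 4030387200 := (pow_dvd_pow 7 (by omega)).trans hd
    exact absurd h1 (by norm_num)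
  rw [hn] at h1 ⊢
  have h3 : 3 ≤ n := (Nat.pow_dvd_pow_iff_le_right (by norm_num)).1 h1
  have h4 : n = 3 := le_antisymm hn3 h3
  rw [h4]
  norm_num

theorem conjP {g v w : List Gen} (h : chkB (g ++ v) (w ++ g) = true) (hw : wd w ∈ P) : wd g * wd v * (wd g)⁻¹ ∈ P := by
  rw [conj_of_chk h]
  exact hw

theorem m1 : wd p1W ∈ P := Heis.mem_P_v z_p2 z_p1 p2_p1
theorem m2 : wd p2W ∈ P := Heis.mem_P_u z_p2 z_p1 p2_p1
theorem m3 : wd zW ∈ P := Heis.mem_P_x z_p2 z_p1 p2_p1

theorem pwP {w : List Gen} (h : wd w ∈ P) (n : ℕ) : wd (pw w n) ∈ P := by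
  rw [wd_pw]
  exact pow_mem h n

theorem appP {v w : List Gen} (h1 : wd v ∈ P) (h2 : wd w ∈ P) : wd (v ++ w) ∈ P := by
  rw [wd_append]
  exact mul_mem h1 h2

theorem norm_of {h : Spor.He} (h1 : h * wd p1W * h⁻¹ ∈ P) (h2 : h * wd p2W * h⁻¹ ∈ P) (h3 : h * wd zW * h⁻¹ ∈ P) :
    h ∈ normalizer (P : Set Spor.He) := by
  have hle : P.map (MulAut.conj h).toMonoidHom ≤ P := by
    rintro _ ⟨_, ⟨j, i, l, rfl⟩, rfl⟩
    change h * (wd p1W ^ j * wd p2W ^ i * wd zW ^ l) * h⁻¹ ∈ P
    have e : h * (wd p1W ^ j * wd p2W ^ i * wd zW ^ l) * h⁻¹ =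
        (h * wd p1W * h⁻¹) ^ j * (h * wd p2W * h⁻¹) ^ i * (h * wd zW * h⁻¹) ^ l := by
      rw [conj_pow, conj_pow, conj_pow]
      group
    rw [e]
    exact mul_mem (mul_mem (pow_mem h1 j) (pow_mem h2 i)) (pow_mem h3 l)
  have heq : P.map (MulAut.conj h).toMonoidHom = P :=
    Subgroup.eq_of_le_of_card_ge hle (by rw [Subgroup.card_map_of_injective (MulAut.conj h).injective])
  rw [mem_normalizer_iff]
  intro n
  constructor
  · intro hn
    exact hle ⟨n, hn, rfl⟩
  · intro hn
    rw [← heq] at hn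
    obtain ⟨m, hm, hmn⟩ := hn
    have : m = n := (MulAut.conj h).injective hmn
    rw [← this]
    exact hm

theorem a_norm : wd Aw ∈ normalizer (P : Set Spor.He) := by
  refine norm_of ?_ ?_ ?_
  · exact conjP (g := Aw) (v := p1W) (w := pw p2W 3 ++ zW) (by decide +kernel) (appP (pwP m2 3) m3)
  · exact conjP (g := Aw) (v := p2W) (w := pw p1W 2 ++ (pw p2W 6 ++ zW)) (by decide +kernel)
      (appP (pwP m1 2) (appP (pwP m2 6) m3))
  · exact conjP (g := Aw) (v := zW) (w := zW) (by decide +kernel) m3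

theorem b_norm : wd Bw ∈ normalizer (P : Set Spor.He) := by
  refine norm_of ?_ ?_ ?_
  · exact conjP (g := Bw) (v := p1W) (w := pw p1W 2 ++ pw zW 3) (by decide +kernel) (appP (pwP m1 2) (pwP m3 3))
  · exact conjP (g := Bw) (v := p2W) (w := pw p2W 2 ++ pw zW 5) (by decide +kernel) (appP (pwP m2 2) (pwP m3 5))
  · exact conjP (g := Bw) (v := zW) (w := pw zW 4) (by decide +kernel) (pwP m3 4)

set_option linter.unusedSectionVars false

section

variable {G : Type*} [Group G] [Finite G]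

theorem card_mul_relIndex {H K : Subgroup G} (h : H ≤ K) : Nat.card H * H.relIndex K = Nat.card K := by
  rw [Subgroup.relIndex, ← Nat.card_congr (Subgroup.subgroupOfEquivOfLe h).toEquiv]
  exact Subgroup.card_mul_index _

theorem card_sup_mul {K H : Subgroup G} (h : H ≤ normalizer (K : Set G)) :
    Nat.card (K ⊔ H : Subgroup G) * Nat.card (K ⊓ H : Subgroup G) = Nat.card K * Nat.card H := by
  have hKn : (K.subgroupOf (K ⊔ H)).Normal :=
    normal_subgroupOf_of_le_normalizer (sup_le le_normalizer h)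
  have h1 := relIndex_sup_left (H.subgroupOf (K ⊔ H)) (K.subgroupOf (K ⊔ H))
  rw [← Subgroup.subgroupOf_sup le_sup_left le_sup_right, Subgroup.subgroupOf_self,
    Subgroup.relIndex_subgroupOf le_sup_right, relIndex_top_right] at h1
  have h2 : Nat.card K * K.relIndex H = Nat.card (K ⊔ H : Subgroup G) := by
    rw [← h1]
    exact card_mul_relIndex le_sup_left
  have h3 : Nat.card (K ⊓ H : Subgroup G) * K.relIndex H = Nat.card H := by
    rw [← Subgroup.inf_relIndex_right K H]
    exact card_mul_relIndex inf_le_right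
  calc _ = Nat.card (K ⊔ H : Subgroup G) * Nat.card (K ⊓ H : Subgroup G) := rfl
    _ = Nat.card K * (Nat.card (K ⊓ H : Subgroup G) * K.relIndex H) := by rw [← h2]; ring
    _ = _ := by rw [h3]

/-- coprime orders -/
theorem card_sup_coprime {K H : Subgroup G} (h : H ≤ normalizer (K : Set G)) (hc : (Nat.card K).Coprime (Nat.card H)) :
    Nat.card (K ⊔ H : Subgroup G) = Nat.card K * Nat.card H := by
  have h1 : Nat.card (K ⊓ H : Subgroup G) = 1 :=
    Nat.eq_one_of_dvd_coprimes hc (Subgroup.card_dvd_of_le inf_le_left) (Subgroup.card_dvd_of_le inf_le_right)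
  have h2 := card_sup_mul h
  rwa [h1, mul_one] at h2

end

/-- the group `3^2` -/
def T : Subgroup Spor.He := zpowers (wd Aw) ⊔ zpowers (wd Bw)

theorem a_order : orderOf (wd Aw) = 3 := orderOf_of (by norm_num) a_pow a_ne
theorem b_order : orderOf (wd Bw) = 3 := orderOf_of (by norm_num) b_pow b_ne

theorem T_le : T ≤ normalizer (P : Set Spor.He) := by
  unfold T
  rw [sup_le_iff, zpowers_le, zpowers_le]
  exact ⟨a_norm, b_norm⟩

theorem not_mem : wd Bw ∉ zpowers (wd Aw) := by
  intro h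
  obtain ⟨k, hk⟩ := mem_zpowers_iff.1 h
  have h3 : wd Aw ^ (3 : ℤ) = 1 := by exact_mod_cast a_pow
  have hk' : wd Aw ^ (k % 3) = wd Bw := by
    rw [← hk]
    conv_rhs => rw [← Int.emod_add_mul_ediv k 3, zpow_add, zpow_mul, h3, one_zpow, mul_one]
  have hk0 : k % 3 = 0 ∨ k % 3 = 1 ∨ k % 3 = 2 := by omega
  rcases hk0 with e | e | e
  · rw [e, zpow_zero] at hk'
    exact b_ne hk'.symm
  · rw [e, zpow_one] at hk'
    apply ab2_ne
    rw [wd_append, wd_append, ← hk', ← pow_two, ← pow_succ']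
    exact a_pow
  · rw [e] at hk'
    apply ab_ne
    rw [wd_append, ← hk']
    have : wd Aw ^ (2 : ℤ) * wd Aw = wd Aw ^ 3 := by
      rw [show (2 : ℤ) = ((2 : ℕ) : ℤ) by norm_num, zpow_natCast, ← pow_succ]
    rw [this]
    exact a_pow

theorem card_T : Nat.card T = 9 := by
  have h3 : Fact (Nat.Prime 3) := ⟨Nat.prime_three⟩
  have hn : zpowers (wd Bw) ≤ normalizer (zpowers (wd Aw) : Set Spor.He) := by
    rw [zpowers_le]
    refine (centralizer_le_normalizer _) ?_
    rw [mem_centralizer_iff]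
    rintro y hy
    obtain ⟨k, rfl⟩ := mem_zpowers_iff.1 hy
    exact (ab_comm.zpow_left k).eq
  have h1 := card_sup_mul hn
  rw [Nat.card_zpowers, Nat.card_zpowers, a_order, b_order] at h1
  have h2 : Nat.card (zpowers (wd Aw) ⊓ zpowers (wd Bw) : Subgroup Spor.He) = 1 := by
    have h4 : Nat.card (zpowers (wd Aw) ⊓ zpowers (wd Bw) : Subgroup Spor.He) ∣ 3 := by
      rw [← b_order, ← Nat.card_zpowers]
      exact Subgroup.card_dvd_of_le inf_le_right
    rcases (Nat.dvd_prime Nat.prime_three).1 h4 with h5 | h5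
    · exact h5
    · exfalso
      have h6 : zpowers (wd Aw) ⊓ zpowers (wd Bw) = zpowers (wd Bw) :=
        Subgroup.eq_of_le_of_card_ge inf_le_right (by rw [Nat.card_zpowers, b_order, h5])
      apply not_mem
      have h7 := mem_zpowers (wd Bw)
      rw [← h6] at h7
      exact h7.1
  rw [h2, mul_one] at h1
  exact h1

theorem card_Q : Nat.card (P ⊔ T : Subgroup Spor.He) = 3087 := by
  rw [card_sup_coprime T_le (by rw [card_P, card_T]; norm_num), card_P, card_T]

/-! ### Order 5 (words and checks of helper436) -/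

def X5 : List Gen := [.a, .c, .d]
def Y5 : List Gen := [
  .a, .g, .d, .b, .c, .d, .f, .d, .c, .d, .b, .c, .d, .f, .b, .c, .d, .c, .b, .a, .b, .c, .d, .c, .b, .f, .d,
  .c, .b, .d, .c, .d, .f, .d, .c, .b, .d, .g]
def G1 : List Gen := [
  .b, .g, .d, .c, .f, .d, .g, .e, .d, .f, .e, .c, .d, .g, .b]
def G2 : List Gen := [
  .e, .d, .c, .b, .g, .d, .e, .f, .d, .c, .d, .f, .g, .d, .b, .c, .d, .g, .b]
def G3 : List Gen := [
  .b, .g, .d, .c, .b, .e, .d, .c, .d, .f, .g, .d, .c, .d, .f, .g, .b]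
def G4 : List Gen := [
  .a, .b, .g, .d, .c, .b, .e, .d, .c, .d, .f, .g, .d, .c, .d, .f, .g, .b]
def G5 : List Gen := [
  .a, .e, .d, .c, .b, .g, .d, .e, .f, .d, .c, .d, .f, .g, .d, .b, .c, .d, .g, .b]

def l5 : List Stp := [⟨27, [], [1, 2], 150⟩, ⟨123, [45, 47, 29], [1, 2], 2⟩, ⟨0, [123], [1, 2], 1⟩,
  ⟨1, [45, 29, 122], [1, 2], 1⟩, ⟨8, [176, 123, 421], [1, 2], 1⟩, ⟨32, [27, 292, 45, 47, 176], [1, 2], 1⟩]

theorem run5 : run X5 l5 [] = true := by decide +kernel

theorem card5 : Nat.card ↥(centralizer ({wd X5} : Set Spor.He)) ≤ 300 := card_le run5 (by decide)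

theorem x5_pow : wd X5 ^ 5 = 1 := pow_of_chk (by decide +kernel)
theorem y5_pow : wd Y5 ^ 5 = 1 := pow_of_chk (by decide +kernel)
theorem y5_ne : wd Y5 ≠ 1 := ne_one_of_act 207 (by decide +kernel)
theorem x5_ne : wd X5 ≠ 1 := ne_one_of_act 1 (by decide +kernel)
theorem y5_x5 : wd Y5 * wd X5 = wd X5 * wd Y5 := (comm_of_chk (by decide +kernel)).eq

theorem conj5 {g w : List Gen} {k l : ℕ} (hkl : (wd X5 ^ k) ^ l = wd X5) (h : chkB (g ++ pw X5 k) (w ++ g) = true) :
    Nat.card ↥(centralizer ({wd w} : Set Spor.He)) ≤ 300 := by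
  have h1 := conj_of_chk h
  rw [wd_pw] at h1
  have h2 := Heis.card_cent_eq (b := wd X5 ^ k) (y := wd w) (g := wd g) (by rw [h1])
  have h3 := Heis.card_cent_eq (b := wd X5 ^ k) (y := wd X5) (g := 1) (by
    rw [one_mul, inv_one, mul_one]
    apply le_antisymm
    · rw [zpowers_le]
      exact pow_mem (mem_zpowers (wd X5)) k
    · rw [zpowers_le]
      have h4 := pow_mem (mem_zpowers (wd X5 ^ k)) l
      rwa [hkl] at h4)
  rw [← h2, h3]
  exact card5

theorem x5_two : (wd X5 ^ 2) ^ 3 = wd X5 := by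
  rw [← pow_mul]
  calc wd X5 ^ (2 * 3) = wd X5 ^ 5 * wd X5 := by rw [← pow_succ]
    _ = wd X5 := by rw [x5_pow, one_mul]

theorem x5_four : (wd X5 ^ 4) ^ 4 = wd X5 := by
  rw [← pow_mul]
  calc wd X5 ^ (4 * 4) = (wd X5 ^ 5) ^ 3 * wd X5 := by rw [← pow_mul, ← pow_succ]
    _ = wd X5 := by rw [x5_pow, one_pow, one_mul]

theorem x5_ne_pow (n : ℕ) (hn : n < 5) : wd X5 * wd Y5 ^ n ≠ 1 := by
  rw [← wd_pw, ← wd_append]
  interval_cases n
  · exact ne_one_of_act 1 (by decide +kernel)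
  · exact ne_one_of_act 1 (by decide +kernel)
  · exact ne_one_of_act 1 (by decide +kernel)
  · exact ne_one_of_act 1 (by decide +kernel)
  · exact ne_one_of_act 1 (by decide +kernel)

theorem x5_not_mem : wd X5 ∉ zpowers (wd Y5) := by
  intro h
  have h1 : (wd X5)⁻¹ ∈ zpowers (wd Y5) := inv_mem h
  rw [← mem_powers_iff_mem_zpowers] at h1
  obtain ⟨k, hk⟩ := h1
  have hk' : wd Y5 ^ k = (wd X5)⁻¹ := hk
  have h2 : wd Y5 ^ (k % 5) = (wd X5)⁻¹ := by
    rw [← hk']
    conv_rhs => rw [← Nat.mod_add_div k 5, pow_add, pow_mul, y5_pow, one_pow, mul_one]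
  exact x5_ne_pow (k % 5) (Nat.mod_lt _ (by norm_num)) (by rw [h2, mul_inv_cancel])

theorem five {b : Spor.He} (hb : orderOf b = 5) : Nat.card ↥(centralizer ({b} : Set Spor.He)) ≤ 300 := by
  have h5 : Fact (Nat.Prime 5) := ⟨by norm_num⟩
  obtain ⟨y, hy, g, hg⟩ := Heis.reps2 y5_pow x5_pow y5_x5 y5_ne x5_not_mem (not_dvd (by decide)) hb
  rw [Heis.card_cent_eq hg]
  rcases hy with rfl | ⟨i, hi, rfl⟩
  · exact conj5 (g := G1) (k := 2) x5_two (by decide +kernel)
  · interval_cases i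
    · rw [pow_zero, mul_one]
      exact card5
    · rw [pow_one, ← wd_append]
      exact conj5 (g := G2) (k := 4) x5_four (by decide +kernel)
    · rw [← wd_pw, ← wd_append]
      exact conj5 (g := G3) (k := 4) x5_four (by decide +kernel)
    · rw [← wd_pw, ← wd_append]
      exact conj5 (g := G4) (k := 4) x5_four (by decide +kernel)
    · rw [← wd_pw, ← wd_append]
      exact conj5 (g := G5) (k := 4) x5_four (by decide +kernel)

theorem prime_cases {q : ℕ} (hq : q.Prime) (h : q ∣ 4030387200) : q = 2 ∨ q = 3 ∨ q = 5 ∨ q = 7 ∨ q = 17 := by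
  have e : (4030387200 : ℕ) = 2 ^ 10 * (3 ^ 3 * (5 ^ 2 * (7 ^ 3 * 17))) := by norm_num
  rw [e] at h
  have key : ∀ {r n : ℕ}, r.Prime → q ∣ r ^ n → q = r := fun hr h =>
    (Nat.prime_dvd_prime_iff_eq hq hr).1 (hq.dvd_of_dvd_pow h)
  rcases (Nat.Prime.dvd_mul hq).1 h with h | h
  · exact Or.inl (key Nat.prime_two h)
  rcases (Nat.Prime.dvd_mul hq).1 h with h | h
  · exact Or.inr (Or.inl (key Nat.prime_three h))
  rcases (Nat.Prime.dvd_mul hq).1 h with h | h
  · exact Or.inr (Or.inr (Or.inl (key (by norm_num) h)))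
  rcases (Nat.Prime.dvd_mul hq).1 h with h | h
  · exact Or.inr (Or.inr (Or.inr (Or.inl (key (by norm_num) h))))
  · exact Or.inr (Or.inr (Or.inr (Or.inr ((Nat.prime_dvd_prime_iff_eq hq (by norm_num)).1 h))))

/-- groups of odd order -/
theorem core_of_odd {H : Type*} [Group H] [Finite H] (h : Odd (Nat.card H)) : pCore 2 H = ⊥ := by
  have h1 := (Lib.Cores.pCore_isPGroup (G := H) 2)
  have : Fact (Nat.Prime 2) := ⟨Nat.prime_two⟩
  obtain ⟨n, hn⟩ := IsPGroup.iff_card.1 h1
  have h2 : 2 ^ n ∣ Nat.card H := by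
    rw [← hn]
    exact Subgroup.card_subgroup_dvd_card _
  have h3 : n = 0 := by
    by_contra h0
    have h4 : 2 ∣ Nat.card H := (dvd_pow_self 2 h0).trans h2
    exact (Nat.not_even_iff_odd.2 h) (even_iff_two_dvd.2 h4)
  rw [h3, pow_zero] at hn
  exact Subgroup.card_eq_one.1 hn

/-- **`FactA`.** -/
theorem factA : FactA Spor.He := by
  refine ⟨P ⊔ T, ?_, fun w hw hw2 => ?_⟩
  · rw [card_Q]
    decide
  rw [card_Q]
  rcases prime_cases hw (by rw [← KFacts.He.Classes.card_he]; exact orderOf_dvd_natCard w) with h | h | h | h | h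
  · exact absurd h hw2
  · rcases three' h with h1 | h1
    · exact Or.inr (by omega)
    · exact Or.inl h1
  · have h1 := five h
    exact Or.inr (by omega)
  · by_cases ho : Odd (Nat.card ↥(centralizer ({w} : Set Spor.He)))
    · exact Or.inl (core_of_odd ho)
    · have h1 := CpAutHe.Seven.card_le h ho
      exact Or.inr (by omega)
  · have h1 := seventeen h
    exact Or.inr (by omega)

/-! ### `FactB` -/

section

open Cfsg.Agent.H652.Four
open Cfsg.Agent.ONType.Psl (PSL3)
open Cfsg.Agent.Blocks.LocalRing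
open Cfsg.Agent.H326.Four
open Cfsg.Agent.KFacts.He.TwoACent Cfsg.Agent.KFacts.He.TwoAPlane

/-- the elements of order 3 with `O_2(C(y)) = 1` -/
def Y (L : Type*) [Group L] : Set L := {y | orderOf y = 3 ∧ pCore 2 ↥(centralizer ({y} : Set L)) = ⊥}

theorem Y_inv {L : Type*} [Group L] (β : MulAut L) {y : L} (hy : y ∈ Y L) : β y ∈ Y L :=
  ⟨by rw [MulEquiv.orderOf_eq]; exact hy.1, pCore_equiv (centEquiv β y) hy.2⟩

/-- a set of elements of order 3 meeting `C(P)`, `C(P)/P ≅ PSL(3,4)` -/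
theorem nn_of_cent {S : Type u} [Group S] [Finite S] {P : Subgroup S} {M : Ideal AlgInt} (hM : IsPModular 2 M)
    (hP : IsPGroup 2 P) (hPC : P ≤ centralizer (P : Set S)) (φ : centralizer (P : Set S) →* PSL3)
    (hφ : Function.Surjective φ) (hker : ∀ c, φ c = 1 → (c : S) ∈ P) {x : S} (hx : x ∈ Y S)
    (hxC : x ∈ centralizer (P : Set S)) : NN M (ind (Y S)) := by
  classical
  have hx' : orderOf (⟨x, hxC⟩ : centralizer (P : Set S)) = 3 := by rw [Subgroup.orderOf_mk]; exact hx.1
  have hinv : ∀ g y : S, ind (Y S) (g * y * g⁻¹) = ind (Y S) y := by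
    intro g y
    have h1 : ∀ (g y : S), y ∈ Y S → g * y * g⁻¹ ∈ Y S := fun g y hy => Y_inv (MulAut.conj g) hy
    by_cases hy : y ∈ Y S
    · rw [ind_pos hy, ind_pos (h1 g y hy)]
    · rw [ind_neg hy, ind_neg]
      intro hy'
      apply hy
      have h2 := h1 g⁻¹ _ hy'
      have h3 : g⁻¹ * (g * y * g⁻¹) * g⁻¹⁻¹ = y := by group
      rwa [h3] at h2
  refine NN.brauer hM hP hPC hinv (fun g => ?_) ?_
  · by_cases h : g ∈ Y S
    · rw [ind_pos h]
      simpa using memLocalRing_natCast hM 1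
    · rw [ind_neg h]
      simpa using memLocalRing_natCast hM 0
  · have he : (fun h : centralizer (P : Set S) => ind (Y S) (h : S)) = cl (⟨x, hxC⟩ : centralizer (P : Set S)) := by
      funext h
      by_cases hc : IsConj (⟨x, hxC⟩ : centralizer (P : Set S)) h
      · rw [cl_pos hc, ind_pos]
        obtain ⟨g, hg⟩ := isConj_iff.1 hc
        rw [← hg]
        exact Y_inv (MulAut.conj (g : S)) hx
      · rw [cl_neg hc, ind_neg]
        intro hc'
        apply hc
        refine conj_in_cent hP φ hφ hker hx' ?_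
        rw [← Subgroup.orderOf_coe]
        exact hc'.1
    rw [he]
    refine NN.quot_central (p := 2) hφ ?_ ?_ (by rw [hx']; norm_num) (nn_three hM (order_map hP φ hker hx'))
    · intro c hc
      rw [mem_center_iff]
      intro g
      apply Subtype.ext
      exact (mem_centralizer_iff.1 g.2 _ (hker c hc)).symm
    · intro c
      obtain ⟨k, hk⟩ := hP ⟨((c : centralizer (P : Set S)) : S), hker c c.2⟩
      refine ⟨k, Subtype.ext (Subtype.ext ?_)⟩
      simpa using congrArg Subtype.val hk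

theorem xA_a : wd XA * gn .a = gn .a * wd XA := by
  have h : Commute (wd XA) (wd [.a]) := comm_of_chk (by decide +kernel)
  exact h.eq

theorem factB : FactB Spor.He := by
  refine ⟨Y Spor.He, fun β y hy => Y_inv β hy, ?_, fun M hM => ?_⟩
  · intro y hy
    refine ⟨?_, hy.2⟩
    rintro rfl
    have h1 := hy.1
    rw [orderOf_one] at h1
    omega
  · refine nn_of_cent (P := V) hM ?_ ?_ (Th.comp (MulEquiv.subgroupCongr RowHe.cent_eq).toMonoidHom) ?_ ?_
      (x := wd XA) ⟨A_order, core_A⟩ ?_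
    · exact IsPGroup.of_card (n := 2) (by rw [card_V]; norm_num)
    · rw [RowHe.cent_eq]
      exact V_le_L
    · exact Th_surjective.comp (MulEquiv.subgroupCongr RowHe.cent_eq).surjective
    · intro c hc
      have h1 : (MulEquiv.subgroupCongr RowHe.cent_eq) c ∈ Th.ker := hc
      rw [ker_Th] at h1
      exact mem_subgroupOf.1 h1
    · rw [RowHe.cent_eq]
      exact BpSpor.HeThree.mem_L A_order xA_a

end

/-! ### Transfer -/

/-- centralizers and isomorphisms -/
noncomputable def cEq {L K : Type*} [Group L] [Group K] (e : L ≃* K) (y : L) :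
    ↥(centralizer ({y} : Set L)) ≃* ↥(centralizer ({e y} : Set K)) :=
  (e.subgroupMap (centralizer ({y} : Set L))).trans (MulEquiv.subgroupCongr (by
    ext g
    rw [mem_centralizer_singleton_iff]
    constructor
    · rintro ⟨s, hs, rfl⟩
      have h1 := mem_centralizer_singleton_iff.1 hs
      change e s * e y = e y * e s
      rw [← map_mul, ← map_mul, h1]
    · intro h
      refine ⟨e.symm g, ?_, e.apply_symm_apply g⟩
      change e.symm g ∈ centralizer ({y} : Set L)
      rw [mem_centralizer_singleton_iff]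
      apply e.injective
      rw [map_mul, map_mul, e.apply_symm_apply]
      exact h))

theorem factA_of_equiv {L : Type u} {K : Type*} [Group L] [Finite L] [Group K] (e : L ≃* K) (h : FactA K) : FactA L := by
  obtain ⟨Q, hQ, hall⟩ := h
  have hc : Nat.card (Q.comap e.toMonoidHom) = Nat.card Q :=
    Nat.card_congr (e.toEquiv.subtypeEquiv fun _ => Iff.rfl)
  refine ⟨Q.comap e.toMonoidHom, by rw [hc]; exact hQ, fun w hw hw2 => ?_⟩
  rw [hc]
  have ho : orderOf (e w) = orderOf w := MulEquiv.orderOf_eq e w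
  rcases hall (e w) (by rw [ho]; exact hw) (by rw [ho]; exact hw2) with h1 | h1
  · left
    exact pCore_equiv (cEq e w).symm h1
  · right
    rw [Nat.card_congr (cEq e w).toEquiv]
    exact h1

theorem factB_of_equiv {L : Type u} {K : Type*} [Group L] [Finite L] [Group K] [Finite K] (e : L ≃* K) (h : FactB K) :
    FactB L := by
  obtain ⟨Y, hY, hYO, hN⟩ := h
  refine ⟨e ⁻¹' Y, ?_, ?_, ?_⟩
  · intro β y hy
    have h1 := hY ((e.symm.trans β).trans e) (e y) hy
    have h2 : ((e.symm.trans β).trans e) (e y) = e (β y) := by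
      change e (β (e.symm (e y))) = _
      rw [e.symm_apply_apply]
    rwa [h2] at h1
  · intro y hy
    obtain ⟨h1, h2⟩ := hYO (e y) hy
    refine ⟨?_, pCore_equiv (cEq e y).symm h2⟩
    rintro rfl
    exact h1 (map_one e)
  · intro M hM
    classical
    have := Fintype.ofFinite L
    have := Fintype.ofFinite K
    refine H652.Four.NN.quot (Q := K) (φ := e.toMonoidHom) e.surjective (F' := ind Y) ?_ (hN M hM)
    intro q
    rw [Finset.sum_eq_single (e.symm q)]
    · by_cases h : q ∈ Y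
      · rw [ind_pos h]
        exact ind_pos (by
          change e (e.symm q) ∈ Y
          rwa [e.apply_symm_apply])
      · rw [ind_neg h]
        exact ind_neg (by
          change ¬ e (e.symm q) ∈ Y
          rwa [e.apply_symm_apply])
    · intro b hb hbq
      exfalso
      apply hbq
      have h1 : e b = q := (Finset.mem_filter.1 hb).2
      rw [← h1, e.symm_apply_apply]
    · intro h1
      exfalso
      apply h1
      rw [Finset.mem_filter]
      exact ⟨Finset.mem_univ _, e.apply_symm_apply q⟩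

/-- **The row of `He`.** -/
theorem row {L : Type u} [Group L] [Finite L] (h : Cfsg.Spor.IsoHe L) (B : Base L) : Row 2 L := by
  obtain ⟨e⟩ := h
  exact row_of_facts B (factA_of_equiv e factA) (factB_of_equiv e factB)

end Cfsg.Agent.H736.S4095.He
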